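import Mathlib
import Cfsg.Prelude.Def_Solvable
import Cfsg.Agent.Lib.Core.Cores
import Cfsg.Agent.Lib.HallGen.Basic

/-!
Commutator values of length `k + 1` and the product order condition on them:
basic consequences of the condition.
-/

set_option autoImplicit false

namespace CfsgLib.GammaValues

open Subgroup
open scoped commutatorElement

/-- Left-normed commutator values of length `k + 1`. -/
def IsVal {G : Type*} [Group G] (k : ℕ) (x : G) : Prop :=
  ∃ f : Fin (k + 1) → G, x = ((List.ofFn f).tail).foldl (fun a b => a * b * a⁻¹ * b⁻¹) (f 0)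

/-- The product order condition on values of coprime orders. -/
def Good (k : ℕ) (G : Type*) [Group G] : Prop :=
  ∀ x y : G, IsVal k x → IsVal k y → (orderOf x).Coprime (orderOf y) →
    (∀ r : ℕ, r.Prime → r ∣ orderOf x * orderOf y → r ∣ orderOf (x * y)) ∨
      orderOf x * orderOf y ≤ orderOf (x * y)

/-- Iterated commutator `[c, w, …, w]`. -/
def iter {G : Type*} [Group G] (w c : G) (m : ℕ) : G := (fun a => ⁅a, w⁆)^[m] c

variable {G H : Type*} [Group G] [Group H]

theorem iter_zero (w c : G) : iter w c 0 = c := rfl

theorem iter_succ (w c : G) (m : ℕ) : iter w c (m + 1) = ⁅iter w c m, w⁆ :=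
  Function.iterate_succ_apply' _ m c

theorem iter_add (w c : G) (m n : ℕ) : iter w c (m + n) = iter w (iter w c n) m :=
  Function.iterate_add_apply _ m n c

theorem map_iter (f : G →* H) (w c : G) (m : ℕ) : f (iter w c m) = iter (f w) (f c) m := by
  induction m with
  | zero => rfl
  | succ m ih => rw [iter_succ, iter_succ, map_commutatorElement, ih]

theorem iter_mem {R : Subgroup G} {w c : G} (hw : w ∈ normalizer (R : Set G)) (hc : c ∈ R) (m : ℕ) :
    iter w c m ∈ R := by
  induction m with
  | zero => exact hc
  | succ m ih =>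
    rw [iter_succ, commutatorElement_def,
      show iter w c m * w * (iter w c m)⁻¹ * w⁻¹ = iter w c m * (w * (iter w c m)⁻¹ * w⁻¹) by group]
    exact mul_mem ih ((mem_normalizer_iff.1 hw _).1 (inv_mem ih))

theorem foldl_replicate_iter (w c : G) (m : ℕ) :
    (List.replicate m w).foldl (fun a b => a * b * a⁻¹ * b⁻¹) c = iter w c m := by
  induction m generalizing c with
  | zero => rfl
  | succ m ih =>
    rw [List.replicate_succ, List.foldl_cons, ih, iter_add w c m 1, iter_succ, iter_zero,
      commutatorElement_def]

theorem isVal_iter {k m : ℕ} (h : k ≤ m) (w c : G) : IsVal k (iter w c m) := by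
  refine ⟨Fin.cons (iter w c (m - k)) (fun _ => w), ?_⟩
  rw [List.ofFn_succ]
  simp only [List.tail_cons, Fin.cons_zero, Fin.cons_succ]
  rw [List.ofFn_const, foldl_replicate_iter, ← iter_add, Nat.add_sub_cancel' h]

theorem map_foldl (f : G →* H) (l : List G) (c : G) :
    f (l.foldl (fun a b => a * b * a⁻¹ * b⁻¹) c) =
      (l.map f).foldl (fun a b => a * b * a⁻¹ * b⁻¹) (f c) := by
  induction l generalizing c with
  | nil => rfl
  | cons a t ih => simp [List.foldl_cons, ih, map_mul, map_inv]

theorem IsVal.map {k : ℕ} {x : G} (hx : IsVal k x) (f : G →* H) : IsVal k (f x) := by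
  obtain ⟨v, rfl⟩ := hx
  exact ⟨fun i => f (v i), by rw [map_foldl, List.map_tail, List.map_ofFn]; rfl⟩

theorem foldl_mem_lcs (l : List G) :
    ∀ (i : ℕ) (c : G), c ∈ (⊤ : Subgroup G).lowerCentralSeries i →
      l.foldl (fun a b => a * b * a⁻¹ * b⁻¹) c ∈
        (⊤ : Subgroup G).lowerCentralSeries (i + l.length) := by
  induction l with
  | nil => intro i c hc; simpa using hc
  | cons a t ih =>
    intro i c hc
    rw [List.foldl_cons, List.length_cons, show i + (t.length + 1) = i + 1 + t.length by omega]
    exact ih (i + 1) _ (commutator_mem_commutator hc (mem_top a))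

theorem IsVal.mem_lcs {k : ℕ} {x : G} (hx : IsVal k x) :
    x ∈ (⊤ : Subgroup G).lowerCentralSeries k := by
  obtain ⟨v, rfl⟩ := hx
  have := foldl_mem_lcs ((List.ofFn v).tail) 0 (v 0) (mem_top _)
  simpa using this

theorem mem_ucs_of_foldl (j : ℕ) :
    ∀ c : G, (∀ v : Fin j → G, (List.ofFn v).foldl (fun a b => a * b * a⁻¹ * b⁻¹) c = 1) →
      c ∈ Subgroup.upperCentralSeries G j := by
  induction j with
  | zero =>
    intro c h
    simpa using h (fun i => i.elim0)
  | succ j ih =>
    intro c h
    rw [Subgroup.mem_upperCentralSeries_succ_iff]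
    intro y
    refine ih _ fun v => ?_
    have := h (Fin.cons y v)
    rw [List.ofFn_succ] at this
    simpa [commutatorElement_def] using this

/-- If all values are trivial, so is the term of the lower central series. -/
theorem lcs_eq_bot_of_vals {k : ℕ} (h : ∀ x : G, IsVal k x → x = 1) :
    (⊤ : Subgroup G).lowerCentralSeries k = ⊥ := by
  rw [lowerCentralSeries_eq_bot_iff_upperCentralSeries_eq_top, eq_top_iff]
  intro c _
  refine mem_ucs_of_foldl k c fun v => h _ ⟨Fin.cons c v, ?_⟩
  rw [List.ofFn_succ]
  simp

theorem Good.subgroup {k : ℕ} (hG : Good k G) (K : Subgroup G) : Good k K := by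
  intro x y hx hy hco
  have := hG (x : G) (y : G) (hx.map K.subtype) (hy.map K.subtype)
  rw [← Subgroup.coe_mul, Subgroup.orderOf_coe, Subgroup.orderOf_coe, Subgroup.orderOf_coe] at this
  exact this hco

/-- A value of coprime order to a commutator with it kills that commutator. -/
theorem Good.iter_eq_one [Finite G] {k : ℕ} (hG : Good k G) {x : G} (hx : IsVal k x) (c : G)
    (hco : (orderOf (iter x c (k + 1))).Coprime (orderOf x)) : iter x c (k + 1) = 1 := by
  set z := iter x c (k + 1) with hz
  have hzx : orderOf (z * x) = orderOf x := by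
    rw [hz, iter_succ, commutatorElement_def]
    exact (SemiconjBy.orderOf_eq (iter x c k)
      (show SemiconjBy (iter x c k) x _ by simp [SemiconjBy, mul_assoc])).symm
  by_contra hne
  rcases hG z x (isVal_iter (Nat.le_succ k) x c) hx hco with h | h
  · have h1 : orderOf z ≠ 1 := fun h' => hne (orderOf_eq_one_iff.1 h')
    obtain ⟨r, hr, hrz⟩ := Nat.exists_prime_and_dvd h1
    have := h r hr (hrz.mul_right _)
    rw [hzx] at this
    exact hr.not_dvd_one (hco ▸ Nat.dvd_gcd hrz this)
  · rw [hzx] at h
    have h0 : 0 < orderOf x := orderOf_pos x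
    have h1 : orderOf z ≤ 1 := Nat.le_of_mul_le_mul_right (by simpa using h) h0
    have h2 := orderOf_pos z
    exact hne (orderOf_eq_one_iff.1 (by omega))

/-- Coprime Engel action is trivial. -/
theorem commute_of_iter_eq_one {R : Subgroup G} {w : G} (hw : w ∈ normalizer (R : Set G))
    (hco : (Nat.card R).Coprime (orderOf w)) :
    ∀ m : ℕ, (∀ c ∈ R, iter w c m = 1) → ∀ c ∈ R, Commute c w := by
  intro m
  induction m with
  | zero =>
    intro h c hc
    rw [show c = 1 from h c hc]
    exact Commute.one_left w
  | succ m ih =>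
    intro h
    cases m with
    | zero =>
      intro c hc
      exact commutatorElement_eq_one_iff_commute.1 (by simpa [iter_succ, iter_zero] using h c hc)
    | succ m =>
      refine ih fun c hc => ?_
      set a := iter w c m with ha
      have haR : a ∈ R := iter_mem hw hc m
      set d := iter w c (m + 1) with hd
      have hdR : d ∈ R := iter_mem hw hc _
      have hcomm : Commute d w := commutatorElement_eq_one_iff_commute.1 (by
        rw [hd, ← iter_succ]; exact h c hc)
      have h1 : d * w = a * w * a⁻¹ := by
        rw [hd, iter_succ, commutatorElement_def, inv_mul_cancel_right]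
      have h2 : d ^ orderOf w = 1 := by
        have := congrArg (· ^ orderOf w) h1
        simp only [hcomm.mul_pow, conj_pow, pow_orderOf_eq_one] at this
        simpa using this
      have h3 : d ^ Nat.card R = 1 := orderOf_dvd_iff_pow_eq_one.1 (R.orderOf_dvd_natCard hdR)
      have h4 := pow_gcd_eq_one.2 ⟨h3, h2⟩
      rwa [hco.gcd_eq_one, pow_one] at h4

/-- A value centralizes every subgroup of coprime order that it normalizes. -/
theorem Good.centralizes [Finite G] {k : ℕ} (hG : Good k G) {x : G} (hx : IsVal k x)
    {R : Subgroup G} (hn : x ∈ normalizer (R : Set G)) (hco : (Nat.card R).Coprime (orderOf x)) :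
    ∀ c ∈ R, Commute c x :=
  commute_of_iter_eq_one hn hco (k + 1) fun c hc =>
    hG.iter_eq_one hx c (hco.coprime_dvd_left (R.orderOf_dvd_natCard (iter_mem hn hc _)))

/-- An element of coprime order acting nontrivially gives a nontrivial iterated commutator. -/
theorem exists_iter_ne_one {R : Subgroup G} {w : G} (hw : w ∈ normalizer (R : Set G))
    (hco : (Nat.card R).Coprime (orderOf w)) {a : G} (ha : a ∈ R) (hne : ¬ Commute a w) (m : ℕ) :
    ∃ c ∈ R, iter w c m ≠ 1 := by
  by_contra! h
  exact hne (commute_of_iter_eq_one hw hco m h a ha)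

end CfsgLib.GammaValues
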