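import Cfsg.Agent.Lib.GammaValues.Basic
import Cfsg.Agent.Lib.ZStar.Main

/-!
In a simple group of even order whose proper subgroups have nilpotent terms of the lower central
series, the normalizer of a Sylow 2-subgroup does not centralize its central involutions.
-/

set_option autoImplicit false

namespace CfsgLib.GammaValues

open Subgroup Cfsg

variable {S : Type*} [Group S]

theorem odd_orderOf_two_pow [Finite S] (x : S) :
    Odd (orderOf (x ^ 2 ^ (orderOf x).factorization 2)) := by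
  rw [orderOf_pow_of_dvd (pow_ne_zero _ two_ne_zero) (Nat.ordProj_dvd (orderOf x) 2)]
  exact Nat.odd_iff.2 (Nat.two_dvd_ne_zero.1 (Nat.not_dvd_ordCompl Nat.prime_two (orderOf_pos x).ne'))

/-- Structure of a group with a nilpotent term of the lower central series. -/
theorem frattini_odd {H : Type*} [Group H] [Finite H] {k : ℕ}
    (h : Group.IsNilpotent ↥((⊤ : Subgroup H).lowerCentralSeries k)) (P : Sylow 2 H) (n : H) :
    ∃ o ∈ pPrimeCore 2 H, ∃ m ∈ normalizer ((P : Subgroup H) : Set H), n = o * m := by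
  set Γ := (⊤ : Subgroup H).lowerCentralSeries k with hΓ
  set π := QuotientGroup.mk' Γ with hπ
  have hπs : Function.Surjective π := QuotientGroup.mk'_surjective _
  haveI : Group.IsNilpotent (H ⧸ Γ) := by
    rw [Subgroup.nilpotent_iff_lowerCentralSeries]
    refine ⟨k, ?_⟩
    rw [← map_top_of_surjective π hπs, ← map_lowerCentralSeries, ← hΓ, hπ]
    exact (Subgroup.map_eq_bot_iff _).2 (QuotientGroup.ker_mk' Γ).ge
  have hle : Γ ≤ pPrimeCore 2 H ⊔ (P : Subgroup H) := fun g hg =>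
    HallGen.mem_of_primePow_parts _ g fun y hy p j hp ho => by
      haveI := Fact.mk hp
      have hys : y ∈ pCore p H := HallGen.mem_pCore_of_mem_nilpotent_normal inferInstance h
        ((zpowers_le.2 hg) hy) ho
      rcases eq_or_ne p 2 with rfl | hp2
      · exact mem_sup_right (CfsgLib.Core.pCore_le_sylow P hys)
      · refine mem_sup_left (CfsgLib.Core.le_pPrimeCore ?_ hys)
        obtain ⟨l, hl⟩ := IsPGroup.iff_card.1 (CfsgLib.Core.isPGroup_pCore p H)
        rw [hl]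
        exact Nat.Coprime.pow_left l ((Nat.coprime_primes hp Nat.prime_two).2 hp2)
  haveI hn : ((P : Subgroup H) ⊔ π.ker).Normal := by
    rw [← Subgroup.comap_map_eq]
    haveI : ((P : Subgroup H).map π).Normal := by
      rw [← Sylow.coe_mapSurjective hπs]; infer_instance
    infer_instance
  haveI : (pPrimeCore 2 H ⊔ (P : Subgroup H)).Normal := by
    have e : pPrimeCore 2 H ⊔ (P : Subgroup H) = pPrimeCore 2 H ⊔ ((P : Subgroup H) ⊔ π.ker) := by
      rw [hπ, QuotientGroup.ker_mk', ← sup_assoc]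
      exact (sup_eq_left.2 hle).symm
    rw [e]; infer_instance
  have hfr := Sylow.normalizer_sup_eq_top' (N := pPrimeCore 2 H ⊔ (P : Subgroup H)) P le_sup_right
  rw [← sup_assoc, sup_comm (normalizer _) (pPrimeCore 2 H), sup_assoc,
    sup_eq_left.2 (show (P : Subgroup H) ≤ normalizer (P : Set H) from le_normalizer)] at hfr
  obtain ⟨o, ho, m, hm, rfl⟩ := mem_sup_of_normal_left.1 (hfr.ge (mem_top n))
  exact ⟨o, ho, m, hm, rfl⟩

/-- A proper subgroup of a 2-subgroup grows in it under taking normalizers. -/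
theorem lt_inf_normalizer [Finite S] {T Q : Subgroup S} (hQ : IsPGroup 2 Q) (h : T < Q) :
    T < Q ⊓ normalizer (T : Set S) := by
  refine lt_of_le_of_ne (le_inf h.le le_normalizer) fun e => ?_
  haveI := hQ.isNilpotent
  have hne : T.subgroupOf Q < ⊤ := lt_top_iff_ne_top.2 fun ht => h.not_ge (subgroupOf_eq_top.1 ht)
  have h2 := normalizerCondition_of_isNilpotent (T.subgroupOf Q) hne
  rw [← subgroupOf_normalizer_eq h.le] at h2
  refine h2.not_ge fun x hx => mem_subgroupOf.2 ?_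
  rw [e]
  exact ⟨x.2, mem_subgroupOf.1 hx⟩

/-- The pairs (Sylow 2-subgroup, distinguished central involution). -/
def Mark (P : Subgroup S) (j : S) (Q : Subgroup S) (i : S) : Prop :=
  ∃ g : S, P.map (MulAut.conj g).toMonoidHom = Q ∧ g * j * g⁻¹ = i

theorem Mark.conj {P Q : Subgroup S} {j i : S} (h : Mark P j Q i) (g : S) :
    Mark P j (Q.map (MulAut.conj g).toMonoidHom) (g * i * g⁻¹) := by
  obtain ⟨x, rfl, rfl⟩ := h
  refine ⟨g * x, ?_, by group⟩
  rw [Subgroup.map_map]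
  congr 1
  ext y
  simp [mul_assoc]

theorem Mark.unique [Finite S] {P Q : Subgroup S} {j i i' : S}
    (hj : ∀ n ∈ normalizer (P : Set S), Commute j n) (h : Mark P j Q i) (h' : Mark P j Q i') :
    i = i' := by
  obtain ⟨x, rfl, rfl⟩ := h
  obtain ⟨y, hy, rfl⟩ := h'
  have hn : y⁻¹ * x ∈ normalizer (P : Set S) := by
    refine mem_normalizer_fintype fun p hp => ?_
    have : x * p * x⁻¹ ∈ P.map (MulAut.conj y).toMonoidHom := by rw [hy]; exact ⟨p, hp, rfl⟩
    obtain ⟨q, hq, hqe⟩ := this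
    change y * q * y⁻¹ = x * p * x⁻¹ at hqe
    have e : y⁻¹ * x * p * (y⁻¹ * x)⁻¹ = y⁻¹ * (x * p * x⁻¹) * y := by group
    rw [SetLike.mem_coe, e, ← hqe, show y⁻¹ * (y * q * y⁻¹) * y = q by group]
    exact hq
  have h2 := (hj _ hn).eq
  calc x * j * x⁻¹ = y * ((y⁻¹ * x) * j) * (y⁻¹ * x)⁻¹ * y⁻¹ := by group
    _ = y * (j * (y⁻¹ * x)) * (y⁻¹ * x)⁻¹ * y⁻¹ := by rw [h2]
    _ = y * j * y⁻¹ := by group

theorem isolated_of_hyp [Finite S] [IsSimpleGroup S] {k : ℕ}
    (h : ∀ H : Subgroup S, H ≠ ⊤ → Group.IsNilpotent ↥((⊤ : Subgroup H).lowerCentralSeries k))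
    (h2 : ¬ IsPGroup 2 S) (P : Sylow 2 S) {j : S} (hj1 : j ≠ 1) (hjP : j ∈ (P : Subgroup S))
    (hj : ∀ n ∈ normalizer ((P : Subgroup S) : Set S), Commute j n) :
    ∀ g : S, g * j * g⁻¹ ∈ (P : Subgroup S) → g * j * g⁻¹ = j := by
  have hpg : ∀ {Q : Subgroup S} {i : S}, Mark (P : Subgroup S) j Q i →
      IsPGroup 2 Q ∧ i ∈ Q ∧ i ≠ 1 ∧ Nat.card Q = Nat.card (P : Subgroup S) := by
    rintro Q i ⟨g, rfl, rfl⟩
    refine ⟨P.isPGroup'.map _, ⟨j, hjP, rfl⟩, fun h => hj1 (conj_eq_one_iff.1 h),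
      Subgroup.card_map_of_injective (MulAut.conj g).injective⟩
  suffices main : ∀ d : ℕ, ∀ (Q₁ Q₂ : Subgroup S) (i₁ i₂ : S), Mark (P : Subgroup S) j Q₁ i₁ →
      Mark (P : Subgroup S) j Q₂ i₂ → i₁ ∈ Q₂ →
      Nat.card (P : Subgroup S) - Nat.card (Q₁ ⊓ Q₂ : Subgroup S) = d → i₁ = i₂ by
    intro g hg
    exact main _ _ _ _ _ ⟨g, rfl, rfl⟩ ⟨1, by ext; simp, by group⟩ hg rfl
  intro d
  induction d using Nat.strong_induction_on with
  | _ d ih =>
  intro Q₁ Q₂ i₁ i₂ h₁ h₂ hi hd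
  obtain ⟨hQ₁, hi₁, hi₁1, hc₁⟩ := hpg h₁
  obtain ⟨hQ₂, -, -, hc₂⟩ := hpg h₂
  set T := Q₁ ⊓ Q₂ with hT
  -- apply the induction hypothesis to a pair with larger intersection
  have step : ∀ (R₁ R₂ : Subgroup S) (a b : S), Mark (P : Subgroup S) j R₁ a →
      Mark (P : Subgroup S) j R₂ b → a ∈ R₂ →
      ∀ A : Subgroup S, T < A → A ≤ R₁ → A ≤ R₂ → a = b := by
    intro R₁ R₂ a b hR₁ hR₂ ha A hTA hA₁ hA₂
    refine ih _ ?_ R₁ R₂ a b hR₁ hR₂ ha rfl
    have hlt : Nat.card T < Nat.card A := by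
      rcases Nat.lt_or_ge (Nat.card T) (Nat.card A) with h' | h'
      · exact h'
      · exact absurd (eq_of_le_of_card_ge hTA.le h') hTA.ne
    have h' := card_le_of_le (le_inf hA₁ hA₂)
    have h'' := (card_le_of_le (inf_le_left : R₁ ⊓ R₂ ≤ R₁)).trans (hpg hR₁).2.2.2.le
    rw [← hd]
    omega
  rcases eq_or_lt_of_le (inf_le_left : T ≤ Q₁) with hTeq | hT₁
  · have : Q₁ = Q₂ := eq_of_le_of_card_ge (inf_eq_left.1 hTeq) (hc₁ ▸ hc₂.le)
    subst this
    exact h₁.unique hj h₂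
  have hT₂ : T < Q₂ := lt_of_le_of_ne inf_le_right fun e => hT₁.ne (le_antisymm inf_le_left
    (le_inf le_rfl (eq_of_le_of_card_ge (inf_eq_right.1 e) (hc₂ ▸ hc₁.le)).ge))
  have hiT : i₁ ∈ T := ⟨hi₁, hi⟩
  have hH : normalizer (T : Set S) ≠ ⊤ := by
    rw [Ne, normalizer_eq_top_iff]
    intro hn
    rcases hn.eq_bot_or_eq_top with hb | ht
    · rw [hb] at hiT; exact hi₁1 hiT
    · exact h2 (IsPGroup.of_equiv ((ht ▸ hQ₁.to_le inf_le_left : IsPGroup 2 (⊤ : Subgroup S)))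
        Subgroup.topEquiv)
  set H := normalizer (T : Set S) with hHdef
  set A := Q₁ ⊓ H with hA
  set B := Q₂ ⊓ H with hB
  obtain ⟨PH, hPH⟩ := ((hQ₁.to_le (inf_le_left : A ≤ Q₁)).comap_subtype (K := H)).exists_le_sylow
  obtain ⟨PB, hPB⟩ := ((hQ₂.to_le (inf_le_left : B ≤ Q₂)).comap_subtype (K := H)).exists_le_sylow
  haveI hTn : (T.subgroupOf H).Normal := normal_in_normalizer
  have hT2 : IsPGroup 2 (T.subgroupOf H) := (hQ₁.to_le inf_le_left).comap_subtype
  obtain ⟨n, hn⟩ := MulAction.exists_smul_eq H PH PB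
  obtain ⟨o, ho, m, hm, rfl⟩ := frattini_odd (h H hH) PH n
  set Pm := (PH : Subgroup H).map H.subtype with hPm
  obtain ⟨P2, hP2⟩ := (PH.isPGroup'.map H.subtype).exists_le_sylow
  have hAP : A ≤ Pm := fun x hx => ⟨⟨x, hx.2⟩, hPH hx, rfl⟩
  have hTP : T ≤ Pm := fun x hx => hAP ⟨inf_le_left (b := Q₂) hx, le_normalizer hx⟩
  have hTA : T < A := lt_inf_normalizer hQ₁ hT₁
  have hTB : T < B := lt_inf_normalizer hQ₂ hT₂
  obtain ⟨g, hg⟩ := MulAction.exists_smul_eq S P P2
  have hm2 : Mark (P : Subgroup S) j P2 (g * j * g⁻¹) := ⟨g, by rw [← hg]; rfl, rfl⟩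
  have e1 : i₁ = g * j * g⁻¹ :=
    step Q₁ P2 i₁ _ h₁ hm2 (hP2 (hTP hiT)) A hTA inf_le_left (hAP.trans hP2)
  rw [← e1] at hm2
  set n : S := ((o * m : H) : S) with hndef
  have hmark := hm2.conj n
  have hconjT : ∀ x : H, ∀ t ∈ T, (x : S) * t * (x : S)⁻¹ ∈ T := fun x t ht =>
    (mem_normalizer_iff.1 x.2 t).1 ht
  have hnT : n * i₁ * n⁻¹ ∈ T := hconjT (o * m) i₁ hiT
  have hBn : B ≤ (P2 : Subgroup S).map (MulAut.conj n).toMonoidHom := by
    intro x hx
    have hx' : (⟨x, hx.2⟩ : H) ∈ ((o * m) • PH : Sylow 2 H) := by rw [hn]; exact hPB hx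
    rw [← SetLike.mem_coe, Sylow.coe_smul] at hx'
    obtain ⟨y, hy, hye⟩ := hx'
    exact ⟨y, hP2 (mem_map_of_mem H.subtype hy), congrArg Subtype.val hye⟩
  have e2 : n * i₁ * n⁻¹ = i₂ :=
    step _ Q₂ _ i₂ hmark h₂ (inf_le_right (a := Q₁) hnT) B hTB hBn inf_le_left
  set i₃ := (m : S) * i₁ * (m : S)⁻¹ with hi₃
  have hi₃T : i₃ ∈ T := hconjT m i₁ hiT
  have hPm' : Pm ≤ (P2 : Subgroup S).map (MulAut.conj (m : S)).toMonoidHom := by
    rintro x ⟨y, hy, rfl⟩
    have hy' : m⁻¹ * y * m ∈ (PH : Subgroup H) := by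
      simpa using (mem_normalizer_iff.1 (inv_mem hm) y).1 hy
    refine ⟨_, hP2 (mem_map_of_mem H.subtype hy'), ?_⟩
    simp [mul_assoc]
  have e3 : i₁ = i₃ :=
    step P2 _ i₁ i₃ hm2 (hm2.conj (m : S)) (hPm' (hTP hiT)) Pm (hTA.trans_le hAP) hP2 hPm'
  have hcomm : Commute o ⟨i₃, le_normalizer hi₃T⟩ := by
    refine commute_of_normal_of_disjoint (pPrimeCore 2 H) (T.subgroupOf H) inferInstance hTn ?_ o
      ⟨i₃, _⟩ ho (mem_subgroupOf.2 hi₃T)
    obtain ⟨l, hl⟩ := IsPGroup.iff_card.1 hT2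
    exact disjoint_iff.2 (inf_eq_bot_of_coprime
      (hl ▸ (CfsgLib.Core.coprime_card_pPrimeCore 2 H).pow_right l))
  rw [← e2, e3]
  have := congrArg Subtype.val hcomm.eq
  simp only [coe_mul] at this
  rw [hndef, coe_mul]
  calc i₃ = ((o : S) * i₃) * (o : S)⁻¹ := by rw [this, mul_inv_cancel_right]
    _ = (o : S) * ((m : S) * i₁ * (m : S)⁻¹) * (o : S)⁻¹ := rfl
    _ = (o : S) * ((m : S) * i₁ * (m : S)⁻¹) * (o : S)⁻¹ := rfl
    _ = _ := by rw [← e3]; group

/-- The normalizer of a Sylow 2-subgroup moves some central involution of it. -/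
theorem exists_moved_involution [Finite S] [IsSimpleGroup S] {k : ℕ}
    (h : ∀ H : Subgroup S, H ≠ ⊤ → Group.IsNilpotent ↥((⊤ : Subgroup H).lowerCentralSeries k))
    (h2 : ¬ IsPGroup 2 S) (heven : Even (Nat.card S)) :
    ∃ (P : Sylow 2 S) (w a : S), w ∈ normalizer ((P : Subgroup S) : Set S) ∧ Odd (orderOf w) ∧
      a ∈ (P : Subgroup S) ∧ a * a = 1 ∧ (∀ x ∈ (P : Subgroup S), Commute a x) ∧ ¬ Commute a w := by
  obtain ⟨P⟩ := (inferInstance : Nonempty (Sylow 2 S))
  haveI : Nontrivial (P : Subgroup S) := by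
    rw [Subgroup.nontrivial_iff_ne_bot]
    exact P.ne_bot_of_dvd_card (even_iff_two_dvd.1 heven)
  haveI := P.isPGroup'.center_nontrivial
  obtain ⟨l, hl⟩ := IsPGroup.iff_card.1 (P.isPGroup'.to_subgroup (center (P : Subgroup S)))
  have hl0 : l ≠ 0 := by
    rintro rfl
    exact absurd hl (Finite.one_lt_card (α := center (P : Subgroup S))).ne'
  obtain ⟨⟨⟨j, hjP⟩, hjc⟩, hjo⟩ :=
    exists_prime_orderOf_dvd_card' (G := center (P : Subgroup S)) 2 (hl ▸ dvd_pow_self 2 hl0)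
  rw [Subgroup.orderOf_mk, Subgroup.orderOf_mk] at hjo
  have hjj : j * j = 1 := by
    have := pow_orderOf_eq_one j
    rwa [hjo, pow_two] at this
  have hjx : ∀ x ∈ (P : Subgroup S), Commute j x := fun x hx =>
    (congrArg Subtype.val (mem_center_iff.1 hjc ⟨x, hx⟩)).symm
  by_contra! hcon
  have hj1 : j ≠ 1 := fun e => by simp [e] at hjo
  have hj : ∀ n ∈ normalizer ((P : Subgroup S) : Set S), Commute j n := by
    intro n hn
    refine (mem_centralizer_singleton_iff.1 ?_).symm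
    refine HallGen.mem_of_primePow_parts (centralizer {j}) n fun y hy p l hp ho =>
      mem_centralizer_singleton_iff.2 ?_
    have hyn : y ∈ normalizer ((P : Subgroup S) : Set S) := (zpowers_le.2 hn) hy
    rcases eq_or_ne p 2 with rfl | hp2
    · have hy2 : IsPGroup 2 (zpowers y) := HallGen.isPGroup_zpowers ho
      have hsup := hy2.to_sup_of_normal_right' P.isPGroup' (zpowers_le.2 hyn)
      have := P.is_maximal' hsup le_sup_right
      exact (hjx y (this.le (mem_sup_left (mem_zpowers y)))).symm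
    · exact (hcon P y j hyn (by rw [ho]; exact (hp.odd_of_ne_two hp2).pow) hjP hjj hjx).symm
  have hiso := isolated_of_hyp h h2 P hj1 hjP hj
  have hbot : oddCore S = ⊥ := by
    rcases (inferInstance : (pPrimeCore 2 S).Normal).eq_bot_or_eq_top with hb | ht
    · exact hb
    · exfalso
      have := CfsgLib.Core.coprime_card_pPrimeCore 2 S
      rw [ht, card_top] at this
      exact absurd (Nat.coprime_two_right.1 this) (Nat.not_odd_iff_even.2 heven)
  have hc : j ∈ center S := mem_center_iff.2 fun g => by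
    have := CfsgLib.ZStar.mem_oddCore_of_sylow P hjo hjP hiso g
    rw [hbot, mem_bot] at this
    calc g * j = (j * g * j⁻¹ * g⁻¹) * g * j := by rw [this, one_mul]
      _ = j * g := by group
  rcases (inferInstance : (center S).Normal).eq_bot_or_eq_top with hb | ht
  · rw [hb, mem_bot] at hc; exact hj1 hc
  · refine h2 (IsPGroup.of_card (n := 1) ?_)
    letI : CommGroup S :=
      { (inferInstance : Group S) with mul_comm := fun a b => (mem_center_iff.1 (ht.ge (mem_top a)) b).symm }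
    have hp : (Nat.card S).Prime := IsSimpleGroup.prime_card
    have := (Nat.prime_dvd_prime_iff_eq Nat.prime_two hp).1 (even_iff_two_dvd.1 heven)
    simp [← this]

end CfsgLib.GammaValues
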