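import Cfsg.Agent.Lib.GammaValues.Basic
import Cfsg.Agent.Lib.OddLocal.TypeP
import Cfsg.Agent.S1385
import Cfsg.Agent.S1541

/-!
A minimal simple group of odd order has a proper subgroup with non-nilpotent term of the lower
central series: some maximal subgroup is of type II, and such a subgroup is not metanilpotent.
-/

set_option autoImplicit false

namespace CfsgLib.GammaValues

open Subgroup Cfsg
open scoped commutatorElement

universe u

theorem not_typeTwo {G : Type u} [Group G] [Finite G] {M : Subgroup G} {k : ℕ}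
    (hM : Group.IsNilpotent ↥((⊤ : Subgroup M).lowerCentralSeries k)) : ¬ IsOfTypeII M := by
  rintro ⟨W₁, U, W₂, hP, hU, -⟩
  obtain ⟨⟨w, hw⟩, hw1⟩ := (nontrivial_iff_exists_ne (1 : W₁)).1
    ((Subgroup.nontrivial_iff_ne_bot _).2 hP.W₁_ne)
  have hw1' : w ≠ 1 := fun h => hw1 (Subtype.ext h)
  have hwM : w ∈ M := hP.W₁_compl.2.1 hw
  have hUM : U ≤ M := hP.U_compl.2.1.trans (CfsgLib.OddLocal.TypeP.derived_le hP)
  have hwU : w ∈ normalizer (U : Set G) := hP.U_normal hw
  let φ : U → U := fun u => ⟨⁅(u : G), w⁆, iter_mem hwU u.2 1⟩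
  have hinj : Function.Injective φ := by
    intro u v huv
    have h : ⁅(u : G), w⁆ = ⁅(v : G), w⁆ := congrArg Subtype.val huv
    rw [commutatorElement_def, commutatorElement_def, mul_left_inj] at h
    have hc : (v : G)⁻¹ * u ∈ U ⊓ centralizer ({w} : Set G) := by
      refine mem_inf.2 ⟨mul_mem (inv_mem v.2) u.2, mem_centralizer_singleton_iff.2 ?_⟩
      calc (v : G)⁻¹ * u * w = (v : G)⁻¹ * ((u : G) * w * (u : G)⁻¹) * u := by group
        _ = (v : G)⁻¹ * ((v : G) * w * (v : G)⁻¹) * u := by rw [h]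
        _ = w * ((v : G)⁻¹ * u) := by group
    have hW₂ : (v : G)⁻¹ * u ∈ W₂ := by
      rw [← hP.W₂_centralizer w hw hw1']
      exact ⟨hP.U_compl.2.1 hc.1, hc.2⟩
    have h1 : (v : G)⁻¹ * u ∈ fittingHallOf M ⊓ U := ⟨(hP.W₂_le hW₂).1, hc.1⟩
    rw [hP.U_compl.2.2.1, mem_bot, inv_mul_eq_one] at h1
    exact Subtype.ext h1.symm
  have hsurj := (Finite.injective_iff_surjective.1 hinj).iterate k
  have hit : ∀ (n : ℕ) (u : U), ((φ^[n] u : U) : G) = iter w (u : G) n := by
    intro n u
    induction n with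
    | zero => rfl
    | succ n ih => rw [Function.iterate_succ_apply', iter_succ, ← ih]
  have hUF : U ≤ fittingOf M := by
    intro x hx
    obtain ⟨u, hu⟩ := hsurj ⟨x, hx⟩
    have h := congrArg Subtype.val hu
    rw [hit k] at h
    change iter w (u : G) k = x at h
    have hm := (isVal_iter (le_refl k) (⟨w, hwM⟩ : M) ⟨u, hUM u.2⟩).mem_lcs
    have := mem_map_of_mem M.subtype (CfsgLib.Core.le_fittingSubgroup hM hm)
    rwa [map_iter, coe_subtype, h] at this
  exact hU (CfsgLib.OddLocal.TypeP.eq_bot_of_le_centralizer hP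
    ((le_inf le_rfl hUF).trans (CfsgLib.OddLocal.TypeP.U_inf_fitting_le hP)))

theorem false_of_odd_simple {G : Type u} [Group G] [Finite G] (hG : IsMinSimpleOddOrder G) {k : ℕ}
    (h : ∀ H : Subgroup G, H ≠ ⊤ → Group.IsNilpotent ↥((⊤ : Subgroup H).lowerCentralSeries k)) :
    False := by
  rcases Cfsg.Agent.S1385.result hG with hI | ⟨W₁, W₂, S, T, -, hS, hT, -, -, -, hII, -⟩
  · obtain ⟨M, hM, hn⟩ := Cfsg.Agent.S1541.result hG
    exact hn (hI M hM)
  · rcases hII with hII | hII
    · exact not_typeTwo (h S hS.1) hII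
    · exact not_typeTwo (h T hT.1) hII

end CfsgLib.GammaValues
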