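import Cfsg.Agent.Lib.GammaValues.Solvable
import Cfsg.Agent.Lib.GammaValues.OddSimple
import Cfsg.Agent.Lib.GammaValues.Fusion
import Cfsg.Agent.S0200

/-!
The product order condition on values implies solvability; the criterion for nilpotency of a term
of the lower central series.
-/

set_option autoImplicit false

namespace CfsgLib.GammaValues

open Subgroup Cfsg
open scoped commutatorElement

universe u

variable {G : Type u} [Group G]

theorem isNilpotent_of_le_fitting [Finite G] {K : Subgroup G} (h : K ≤ fittingSubgroup G) :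
    Group.IsNilpotent K :=
  haveI := CfsgLib.Core.isNilpotent_fittingSubgroup G
  CfsgLib.Core.isNilpotent_of_le h

theorem normal_le_frattini [Finite G] (hsub : ∀ H : Subgroup G, H ≠ ⊤ → Group.IsSolvable H)
    (hns : ¬ Group.IsSolvable G) {N : Subgroup G} [N.Normal] (hN : N ≠ ⊤) : N ≤ frattini G := by
  rw [frattini, Order.radical]
  refine le_iInf₂ fun M hM => ?_
  by_contra hNM
  have hsup : M ⊔ N = ⊤ := hM.2 _ (lt_of_le_of_ne le_sup_left fun e => hNM (e ▸ le_sup_right))
  haveI := hsub M hM.1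
  haveI := hsub N hN
  have hs : Function.Surjective ((QuotientGroup.mk' N).comp M.subtype) := by
    intro q
    obtain ⟨g, rfl⟩ := QuotientGroup.mk'_surjective N q
    obtain ⟨a, ha, b, hb, rfl⟩ := mem_sup_of_normal_right.1 (hsup.ge (mem_top g))
    refine ⟨⟨a, ha⟩, ?_⟩
    simp [(QuotientGroup.eq_one_iff b).2 hb]
  haveI : Group.IsSolvable (G ⧸ N) := solvable_of_surjective hs
  exact hns (solvable_of_ker_le_range N.subtype (QuotientGroup.mk' N)
    (by rw [QuotientGroup.ker_mk', N.range_subtype]))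

theorem Good.not_minimal [Finite G] {k : ℕ} (hG : Good k G)
    (hsub : ∀ H : Subgroup G, H ≠ ⊤ → Group.IsSolvable H) (hns : ¬ Group.IsSolvable G) : False := by
  classical
  set N := frattini G with hNdef
  set π := QuotientGroup.mk' N with hπ
  have hπs : Function.Surjective π := QuotientGroup.mk'_surjective _
  haveI hNnil : Group.IsNilpotent N := frattini_nilpotent
  haveI : Group.IsSolvable N := inferInstance
  have hNtop : N ≠ ⊤ := fun e => hns (solvable_of_surjective
    (f := N.subtype) (fun g => ⟨⟨g, e ▸ mem_top g⟩, rfl⟩))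
  have hSns : ¬ Group.IsSolvable (G ⧸ N) := fun h => hns (solvable_of_ker_le_range N.subtype π
    (by rw [hπ, QuotientGroup.ker_mk', N.range_subtype]))
  haveI : Nontrivial (G ⧸ N) := by
    by_contra h
    rw [not_nontrivial_iff_subsingleton] at h
    exact hSns inferInstance
  haveI : IsSimpleGroup (G ⧸ N) := ⟨fun K hK => by
    rcases eq_or_ne (K.comap π) ⊤ with h | h
    · right
      have := congrArg (Subgroup.map π) h
      rwa [map_comap_eq_self_of_surjective hπs, map_top_of_surjective π hπs] at this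
    · left
      have := map_mono (f := π) (normal_le_frattini hsub hns h)
      rw [map_comap_eq_self_of_surjective hπs] at this
      exact le_bot_iff.1 (this.trans ((Subgroup.map_eq_bot_iff _).2 (by rw [hπ, QuotientGroup.ker_mk'])).le)⟩
  have hproper : ∀ K : Subgroup (G ⧸ N), K ≠ ⊤ → K.comap π ≠ ⊤ := fun K hK h => hK (by
    have := congrArg (Subgroup.map π) h
    rwa [map_comap_eq_self_of_surjective hπs, map_top_of_surjective π hπs] at this)
  have hsolv : ∀ K : Subgroup (G ⧸ N), K ≠ ⊤ → Group.IsSolvable K := fun K hK =>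
    haveI := hsub _ (hproper K hK)
    solvable_of_surjective (MonoidHom.subgroupComap_surjective_of_surjective π K hπs)
  have hlcs : ∀ K : Subgroup (G ⧸ N), K ≠ ⊤ →
      Group.IsNilpotent ↥((⊤ : Subgroup K).lowerCentralSeries k) := by
    intro K hK
    haveI := hsub _ (hproper K hK)
    haveI := isNilpotent_of_le_fitting ((hG.subgroup (K.comap π)).lcs_le_fitting)
    have hs := MonoidHom.subgroupComap_surjective_of_surjective π K hπs
    rw [← map_top_of_surjective (π.subgroupComap K) hs, ← map_lowerCentralSeries]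
    exact CfsgLib.Core.isNilpotent_map _ _
  rcases Nat.even_or_odd (Nat.card (G ⧸ N)) with heven | hodd
  swap
  · refine false_of_odd_simple ⟨hodd, inferInstance, fun hc => hSns ?_, hsolv⟩ hlcs
    exact isSolvable_of_comm fun a b => hc.is_comm.comm a b
  have h2 : ¬ IsPGroup 2 (G ⧸ N) := fun h => hSns (haveI := h.isNilpotent; inferInstance)
  obtain ⟨P, w, a, hw, hwodd, haP, haa, haZ, hne⟩ := exists_moved_involution hlcs h2 heven
  -- a 2-element value mapping onto an involution
  obtain ⟨R⟩ := (inferInstance : Nonempty (Sylow 2 ((P : Subgroup (G ⧸ N)).comap π)))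
  set Rm := (R : Subgroup ((P : Subgroup (G ⧸ N)).comap π)).map ((P : Subgroup (G ⧸ N)).comap π).subtype
    with hRm
  have hRP : Rm.map π = (P : Subgroup (G ⧸ N)) := map_sylow_comap hπs P.isPGroup' R
  obtain ⟨w₀, rfl⟩ := hπs w
  have hw₀ : w₀ ∈ normalizer (((P : Subgroup (G ⧸ N)).comap π : Subgroup G) : Set G) := by
    rw [mem_normalizer_iff]
    intro x
    simp only [mem_comap, map_mul, map_inv]
    exact mem_normalizer_iff.1 hw (π x)
  obtain ⟨u, hu, hwu⟩ := exists_normalizer_lift (N := N) R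
    (by simpa [hπ, QuotientGroup.ker_mk'] using comap_le_sylow_sup_ker hπs P.isPGroup' R) hw₀
  have hπu : π u = π w₀ := by
    have : π (w₀⁻¹ * u) = 1 := (QuotientGroup.eq_one_iff _).2 hwu
    rw [map_mul, map_inv, inv_mul_eq_one] at this
    exact this.symm
  set i := (orderOf u).factorization 2
  have huodd : Odd (orderOf (u ^ 2 ^ i)) := odd_orderOf_two_pow u
  have hne' : ¬ Commute a (π (u ^ 2 ^ i)) := by
    intro hc
    rw [map_pow, hπu] at hc
    obtain ⟨m, hm⟩ := exists_pow_eq_self_of_coprime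
      (Nat.Coprime.pow_left i (Nat.coprime_two_left.2 hwodd))
    exact hne (hm ▸ hc.pow_right m)
  let Z₀ : Subgroup (G ⧸ N) :=
    { carrier := {z | z ∈ (P : Subgroup (G ⧸ N)) ∧ z * z = 1 ∧
        ∀ x ∈ (P : Subgroup (G ⧸ N)), Commute z x}
      one_mem' := ⟨one_mem _, one_mul _, fun x _ => Commute.one_left x⟩
      mul_mem' := fun {y z} hy hz => ⟨mul_mem hy.1 hz.1, by
          rw [(hy.2.2 z hz.1).symm.mul_mul_mul_comm, hy.2.1, hz.2.1, one_mul],
        fun x hx => (hy.2.2 x hx).mul_left (hz.2.2 x hx)⟩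
      inv_mem' := fun {y} hy => ⟨inv_mem hy.1, by rw [← mul_inv_rev, hy.2.1, inv_one],
        fun x hx => (hy.2.2 x hx).inv_left⟩ }
  have hwn : π (u ^ 2 ^ i) ∈ normalizer ((P : Subgroup (G ⧸ N)) : Set (G ⧸ N)) := by
    rw [map_pow, hπu]; exact pow_mem hw _
  have hwZ : π (u ^ 2 ^ i) ∈ normalizer (Z₀ : Set (G ⧸ N)) := by
    refine mem_normalizer_fintype fun z hz => ?_
    refine ⟨(mem_normalizer_iff.1 hwn z).1 hz.1, ?_, fun x hx => ?_⟩
    · rw [conj_mul, hz.2.1, mul_one, mul_inv_cancel]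
    · have hx' := (mem_normalizer_iff.1 (inv_mem hwn) x).1 hx
      rw [inv_inv] at hx'
      have := (hz.2.2 _ hx').eq
      exact commute_iff_eq _ _ |>.2 (by
        calc π (u ^ 2 ^ i) * z * (π (u ^ 2 ^ i))⁻¹ * x
            = π (u ^ 2 ^ i) * (z * ((π (u ^ 2 ^ i))⁻¹ * x * π (u ^ 2 ^ i))) * (π (u ^ 2 ^ i))⁻¹ := by group
          _ = π (u ^ 2 ^ i) * (((π (u ^ 2 ^ i))⁻¹ * x * π (u ^ 2 ^ i)) * z) * (π (u ^ 2 ^ i))⁻¹ := by rw [this]
          _ = x * (π (u ^ 2 ^ i) * z * (π (u ^ 2 ^ i))⁻¹) := by group)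
  have hZ2 : IsPGroup 2 Z₀ := P.isPGroup'.to_le fun z hz => hz.1
  have hZco : (Nat.card Z₀).Coprime (orderOf (π (u ^ 2 ^ i))) := by
    obtain ⟨l, hl⟩ := IsPGroup.iff_card.1 hZ2
    rw [hl]
    exact Nat.Coprime.pow_left l
      ((Nat.coprime_two_left.2 huodd).coprime_dvd_right (orderOf_map_dvd π _))
  obtain ⟨c, hc, hcne⟩ := exists_iter_ne_one hwZ hZco (show a ∈ Z₀ from ⟨haP, haa, haZ⟩) hne' k
  have hjmem := iter_mem hwZ hc k
  obtain ⟨d, hd, rfl⟩ := hRP.ge hc.1
  rw [← map_iter] at hcne hjmem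
  set v := iter (u ^ 2 ^ i) d k with hv
  have hvR : v ∈ Rm := iter_mem (pow_mem hu _) hd k
  have hvval : IsVal k v := isVal_iter le_rfl _ _
  set j := π v with hj
  have hjj : j * j = 1 := hjmem.2.1
  have hjo : orderOf j = 2 := orderOf_eq_prime (by rw [pow_two]; exact hjj) hcne
  have hjinv : j⁻¹ = j := inv_eq_of_mul_eq_one_right hjj
  obtain ⟨lv, hlv⟩ : ∃ l, orderOf v = 2 ^ l := by
    obtain ⟨l, hl⟩ := IsPGroup.iff_card.1 (R.isPGroup'.map ((P : Subgroup (G ⧸ N)).comap π).subtype)
    obtain ⟨l', -, hl'⟩ := (Nat.dvd_prime_pow Nat.prime_two).1 (hl ▸ Subgroup.orderOf_dvd_natCard _ hvR)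
    exact ⟨l', hl'⟩
  -- an element of odd prime order inverted by the involution
  obtain ⟨h₀, hh₀, hh₀o, hh₀i⟩ := Cfsg.Agent.S0200.result j hjo (fun K hK hK2 hjK => by
    rcases hK.eq_bot_or_eq_top with h | h
    · rw [h, mem_bot] at hjK; exact hcne hjK
    · exact h2 (IsPGroup.of_equiv (h ▸ hK2 : IsPGroup 2 (⊤ : Subgroup (G ⧸ N))) Subgroup.topEquiv))
  obtain ⟨r, hr, hrd⟩ := Nat.exists_prime_and_dvd (fun e => hh₀ (orderOf_eq_one_iff.1 e))
  haveI := Fact.mk hr
  have hr2 : r ≠ 2 := by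
    rintro rfl
    exact Nat.not_even_iff_odd.2 hh₀o (even_iff_two_dvd.2 hrd)
  set h := h₀ ^ (orderOf h₀ / r) with hhdef
  have hho : orderOf h = r := orderOf_pow_orderOf_div (orderOf_pos h₀).ne' hrd
  have hh1 : h ≠ 1 := fun e => by rw [e, orderOf_one] at hho; exact hr.one_lt.ne hho
  have hhi : j * h * j⁻¹ = h⁻¹ := by rw [hhdef, ← conj_pow, hh₀i, inv_pow]
  set C := zpowers h with hC
  have hCp : IsPGroup r C := HallGen.isPGroup_zpowers (k := 1) (by rw [pow_one, hho])
  set K := C.comap π with hK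
  have hjC : j ∈ normalizer (C : Set (G ⧸ N)) := by
    refine mem_normalizer_fintype fun x hx => ?_
    obtain ⟨n, rfl⟩ := mem_zpowers_iff.1 hx
    rw [← conj_zpow, hhi, inv_zpow]
    exact inv_mem (zpow_mem (mem_zpowers h) n)
  have hvK : v ∈ normalizer (K : Set G) := by
    rw [mem_normalizer_iff]
    intro x
    simp only [hK, mem_comap, map_mul, map_inv]
    exact mem_normalizer_iff.1 hjC (π x)
  obtain ⟨Q⟩ := (inferInstance : Nonempty (Sylow r K))
  set Qm := (Q : Subgroup K).map K.subtype with hQm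
  obtain ⟨lQ, hlQ⟩ := IsPGroup.iff_card.1 (Q.isPGroup'.map K.subtype)
  obtain ⟨t, ht, hvt⟩ := exists_normalizer_lift (N := N) Q
    (by simpa [hπ, hK, QuotientGroup.ker_mk'] using comap_le_sylow_sup_ker hπs hCp Q) hvK
  have hπt : π t = j := by
    have : π (v⁻¹ * t) = 1 := (QuotientGroup.eq_one_iff _).2 hvt
    rw [map_mul, map_inv, inv_mul_eq_one] at this
    exact this.symm
  -- an `r`-element value outside the Frattini subgroup
  set e := (orderOf t).factorization r
  have hto : (orderOf (t ^ r ^ e)).Coprime r := by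
    rw [orderOf_pow_of_dvd (pow_ne_zero _ hr.ne_zero) (Nat.ordProj_dvd (orderOf t) r),
      Nat.coprime_comm, hr.coprime_iff_not_dvd]
    exact Nat.not_dvd_ordCompl hr (orderOf_pos t).ne'
  have hπt' : π (t ^ r ^ e) = j := by
    rw [map_pow, hπt]
    obtain ⟨m, hm⟩ := (hr.odd_of_ne_two hr2).pow (n := e)
    rw [hm, pow_succ, pow_mul, pow_two, hjj, one_pow, one_mul]
  have hnc : ¬ Commute h j := by
    intro hc
    rw [show j * h * j⁻¹ = h by rw [← hc.eq, mul_inv_cancel_right]] at hhi
    have h2' : h ^ 2 = 1 := by rw [pow_two]; nth_rw 2 [hhi]; exact mul_inv_cancel h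
    have := orderOf_dvd_of_pow_eq_one h2'
    rw [hho] at this
    exact hr2 ((Nat.prime_dvd_prime_iff_eq hr Nat.prime_two).1 this)
  obtain ⟨c', hc', hc'ne⟩ := exists_iter_ne_one (R := C) (w := π (t ^ r ^ e)) (by rw [hπt']; exact hjC)
    (by
      rw [hC, Nat.card_zpowers, hho, hπt', hjo]
      exact (Nat.coprime_primes hr Nat.prime_two).2 hr2)
    (mem_zpowers h) (by rw [hπt']; exact hnc) k
  obtain ⟨d', hd', rfl⟩ := (map_sylow_comap hπs hCp Q).ge hc'
  rw [← map_iter] at hc'ne
  set z := iter (t ^ r ^ e) d' k with hz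
  have hzQ : z ∈ Qm := iter_mem (pow_mem ht _) hd' k
  -- `O_2(G)` is central
  have hcent : pCore 2 G ≤ center G := by
    obtain ⟨l, hl⟩ := IsPGroup.iff_card.1 (CfsgLib.Core.isPGroup_pCore 2 G)
    have hzc : z ∈ centralizer (pCore 2 G : Set G) := mem_centralizer_iff.2 fun x hx => by
      refine hG.centralizes (isVal_iter le_rfl _ _) (R := pCore 2 G) ?_ ?_ x hx
      · rw [normalizer_eq_top_iff.2 inferInstance]; exact mem_top _
      · rw [hl]
        refine Nat.Coprime.coprime_dvd_right (Subgroup.orderOf_dvd_natCard _ hzQ) ?_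
        rw [hlQ]
        exact ((Nat.coprime_primes Nat.prime_two hr).2 (Ne.symm hr2)).pow l lQ
    have htop : centralizer (pCore 2 G : Set G) = ⊤ := by
      by_contra hC'
      exact hc'ne ((QuotientGroup.eq_one_iff z).2 (normal_le_frattini hsub hns hC' hzc))
    intro x hx
    exact mem_center_iff.2 fun g => (mem_centralizer_iff.1 (htop.ge (mem_top g)) x hx).symm
  -- there is an odd number of Sylow `r`-subgroups of `K`
  have hodd' : ¬ 2 ∣ Nat.card (Sylow r K) := by
    obtain ⟨T₂⟩ := (inferInstance : Nonempty (Sylow 2 K))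
    have hle : (T₂ : Subgroup K) ≤ normalizer ((Q : Subgroup K) : Set K) := by
      intro y hy
      obtain ⟨l, hl⟩ := IsPGroup.iff_card.1 T₂.isPGroup'
      obtain ⟨l', -, hl'⟩ := (Nat.dvd_prime_pow Nat.prime_two).1
        (hl ▸ Subgroup.orderOf_dvd_natCard _ hy)
      have hyo : orderOf (y : G) = 2 ^ l' := by rw [Subgroup.orderOf_coe, hl']
      have hyN : (y : G) ∈ N := by
        refine (QuotientGroup.eq_one_iff (y : G)).1 (eq_one_of_orderOf_prime_pow Nat.prime_two hr
          (Ne.symm hr2) (i := l') (j := 1) (hyo ▸ orderOf_map_dvd π _) ?_)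
        rw [pow_one, ← hho, ← Nat.card_zpowers h]
        exact Subgroup.orderOf_dvd_natCard C y.2
      have hyc : (y : G) ∈ center G := hcent
        (HallGen.mem_pCore_of_mem_nilpotent_normal inferInstance hNnil hyN hyo)
      refine mem_normalizer_fintype fun q hq => ?_
      have : y * q = q * y := Subtype.ext (mem_center_iff.1 hyc q).symm
      rw [this, mul_inv_cancel_right]
      exact hq
    rw [Q.card_eq_index_normalizer]
    exact fun hd2 => T₂.not_dvd_index (hd2.trans (index_dvd_of_le hle))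
  -- so `v` normalizes one of them
  let φ : zpowers v →* MulAut K :=
    K.normalizerMonoidHom.comp (Subgroup.inclusion (zpowers_le.2 hvK))
  letI : MulAction (zpowers v) (Sylow r K) := MulAction.compHom _ φ
  obtain ⟨Q', hQ'⟩ := (HallGen.isPGroup_zpowers hlv).nonempty_fixed_point_of_prime_not_dvd_card
    (Sylow r K) hodd'
  have hvQ : v ∈ normalizer (((Q' : Subgroup K).map K.subtype : Subgroup G) : Set G) :=
    mem_normalizer_of_smul_eq Q' (φ ⟨v, mem_zpowers v⟩) (fun x => rfl) (hQ' ⟨v, mem_zpowers v⟩)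
  obtain ⟨l', hl'⟩ := IsPGroup.iff_card.1 (Q'.isPGroup'.map K.subtype)
  obtain ⟨d'', hd'', hdh⟩ := (map_sylow_comap hπs hCp Q').ge (mem_zpowers h)
  have hcomm : Commute d'' v := hG.centralizes hvval hvQ
    (by rw [hl', hlv]; exact ((Nat.coprime_primes hr Nat.prime_two).2 hr2).pow l' lv) d'' hd''
  refine hnc ?_
  rw [← hdh, hj]
  exact hcomm.map π

theorem Good.isSolvable_aux : ∀ n : ℕ, ∀ (G : Type u) [Group G] [Finite G], Nat.card G = n →
    ∀ k : ℕ, Good k G → Group.IsSolvable G := by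
  intro n
  induction n using Nat.strong_induction_on with
  | _ n ih =>
    intro G _ _ hn k hG
    by_contra hns
    refine hG.not_minimal (fun H hH => ?_) hns
    refine ih _ ?_ H rfl k (hG.subgroup H)
    rw [← hn]
    exact lt_of_le_of_ne H.card_le_card_group fun e => hH (H.eq_top_of_card_eq e)

/-- The criterion. -/
theorem nilpotent_iff_good [Finite G] (k : ℕ) :
    Group.IsNilpotent ↥((⊤ : Subgroup G).lowerCentralSeries k) ↔ Good k G := by
  refine ⟨fun h x y hx hy hco => Or.inr (le_of_eq ?_), fun hG => ?_⟩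
  · have hcomm : Commute x y := congrArg Subtype.val
      (CfsgLib.OddLocal.commute_of_coprime_orderOf h (x := ⟨x, hx.mem_lcs⟩) (y := ⟨y, hy.mem_lcs⟩)
        (by rwa [Subgroup.orderOf_mk, Subgroup.orderOf_mk])).eq
    exact (hcomm.orderOf_mul_eq_mul_orderOf_of_coprime hco).symm
  · haveI := Good.isSolvable_aux _ G rfl k hG
    exact isNilpotent_of_le_fitting hG.lcs_le_fitting

end CfsgLib.GammaValues
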