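import Cfsg.Agent.Lib.GammaValues.Basic
import Cfsg.Agent.Lib.Components.FStar

/-!
The product order condition on values in a solvable group forces the term of the lower central
series into the Fitting subgroup.
-/

set_option autoImplicit false

namespace CfsgLib.GammaValues

open Subgroup Cfsg
open scoped Pointwise

variable {G Q : Type*} [Group G] [Group Q]

/-- An automorphism of `K` induced by `g` and fixing a Sylow subgroup puts `g` in its normalizer. -/
theorem mem_normalizer_of_smul_eq [Finite G] {r : ℕ} {K : Subgroup G} (R : Sylow r K) {g : G}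
    (ψ : MulAut K) (hψ : ∀ x : K, (ψ x : G) = g * x * g⁻¹) (h : ψ • R = R) :
    g ∈ normalizer (((R : Subgroup K).map K.subtype : Subgroup G) : Set G) := by
  refine mem_normalizer_fintype ?_
  rintro _ ⟨x, hx, rfl⟩
  refine ⟨ψ x, ?_, hψ x⟩
  have h' : ψ • (R : Subgroup K) = R := congrArg Sylow.toSubgroup h
  rw [SetLike.mem_coe, ← h']
  exact smul_mem_pointwise_smul x ψ _ hx

/-- Frattini argument: a normalizing element may be corrected to normalize a Sylow subgroup. -/
theorem exists_normalizer_lift [Finite G] {r : ℕ} [Fact r.Prime] {N K : Subgroup G} [N.Normal]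
    (R : Sylow r K) (hK : K ≤ (R : Subgroup K).map K.subtype ⊔ N) {v : G}
    (hv : v ∈ normalizer (K : Set G)) :
    ∃ u ∈ normalizer (((R : Subgroup K).map K.subtype : Subgroup G) : Set G), v⁻¹ * u ∈ N := by
  set Rm := (R : Subgroup K).map K.subtype with hRm
  set φ : MulAut K := K.normalizerMonoidHom ⟨v, hv⟩ with hφ
  obtain ⟨a, ha⟩ := MulAction.exists_smul_eq K (φ • R) R
  have hfix : (MulAut.conj a * φ) • R = R := by rw [mul_smul]; exact ha
  have hav : (a : G) * v ∈ normalizer (Rm : Set G) :=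
    mem_normalizer_of_smul_eq R _ (fun x => by
      rw [MulAut.mul_apply, MulAut.conj_apply]
      change (a : G) * (v * x * v⁻¹) * (a : G)⁻¹ = _
      group) hfix
  obtain ⟨p, hp, n, hn, hpn⟩ := mem_sup_of_normal_right.1 (hK a.2)
  refine ⟨n * v, ?_, ?_⟩
  · rw [show n * v = p⁻¹ * ((a : G) * v) by rw [← hpn]; group]
    exact mul_mem (inv_mem (le_normalizer hp)) hav
  · have := (inferInstance : N.Normal).conj_mem n hn v⁻¹
    simpa [mul_assoc] using this

/-- A Sylow subgroup of the preimage of an `r`-group maps onto it. -/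
theorem map_sylow_comap [Finite G] {r : ℕ} [Fact r.Prime] {f : G →* Q} (hf : Function.Surjective f)
    {C : Subgroup Q} (hC : IsPGroup r C) (R : Sylow r (C.comap f)) :
    ((R : Subgroup (C.comap f)).map (C.comap f).subtype).map f = C := by
  have hs : Function.Surjective (f.subgroupComap C) :=
    MonoidHom.subgroupComap_surjective_of_surjective f C hf
  have htop : (R : Subgroup (C.comap f)).map (f.subgroupComap C) = ⊤ := by
    have := (R.mapSurjective hs).is_maximal' (IsPGroup.of_equiv hC Subgroup.topEquiv.symm) le_top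
    rw [← Sylow.coe_mapSurjective hs]
    exact this.symm
  rw [Subgroup.map_map]
  refine le_antisymm ?_ ?_
  · rintro _ ⟨x, -, rfl⟩
    exact x.2
  · intro c hc
    obtain ⟨x, hx, hxc⟩ := htop.ge (mem_top (⟨c, hc⟩ : C))
    exact ⟨x, hx, congrArg Subtype.val hxc⟩

theorem comap_le_sylow_sup_ker [Finite G] {r : ℕ} [Fact r.Prime] {f : G →* Q}
    (hf : Function.Surjective f) {C : Subgroup Q} (hC : IsPGroup r C) (R : Sylow r (C.comap f)) :
    C.comap f ≤ (R : Subgroup (C.comap f)).map (C.comap f).subtype ⊔ f.ker := by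
  rw [← Subgroup.comap_map_eq, map_sylow_comap hf hC R]

/-- A normal subgroup whose elements of `r'` prime power order are central in it is nilpotent. -/
theorem le_fitting_of_primary_central [Finite G] {r : ℕ} [Fact r.Prime] {T : Subgroup G} [T.Normal]
    (h : ∀ s : ℕ, s.Prime → s ≠ r → ∀ y ∈ T, ∀ j : ℕ, orderOf y = s ^ j → ∀ t ∈ T, Commute y t) :
    T ≤ fittingSubgroup G := by
  refine CfsgLib.Core.le_fittingSubgroup ?_
  have hq : IsPGroup r (T ⧸ Subgroup.center T) := by
    intro q
    obtain ⟨t, rfl⟩ := QuotientGroup.mk'_surjective (Subgroup.center T) q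
    refine ⟨(orderOf t).factorization r, ?_⟩
    rw [← map_pow]
    refine (QuotientGroup.eq_one_iff _).2 (HallGen.mem_of_primePow_parts _ _ fun y hy s j hs ho => ?_)
    by_cases hj : j = 0
    · subst hj
      rw [pow_zero, orderOf_eq_one_iff] at ho
      subst ho
      exact one_mem _
    have hsr : s ≠ r := by
      rintro rfl
      have h1 : s ∣ orderOf (t ^ s ^ (orderOf t).factorization s) :=
        ((dvd_pow_self s hj).trans ho.symm.dvd).trans (orderOf_dvd_of_mem_zpowers hy)
      rw [orderOf_pow_of_dvd (pow_ne_zero _ hs.ne_zero) (Nat.ordProj_dvd (orderOf t) s)] at h1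
      exact Nat.not_dvd_ordCompl hs (orderOf_pos t).ne' h1
    rw [Subgroup.mem_center_iff]
    intro u
    exact Subtype.ext (h s hs hsr (y : G) y.2 j (by rw [Subgroup.orderOf_coe]; exact ho) u u.2).symm
  haveI := hq.isNilpotent
  exact of_quotient_center_nilpotent inferInstance

/-- A value of prime power order sitting in a suitable normal subgroup lies in the Fitting subgroup. -/
theorem Good.val_mem_fitting [Finite G] {k : ℕ} (hG : Good k G) {r : ℕ} [Fact r.Prime] {x : G}
    (hx : IsVal k x) {j : ℕ} (hxr : orderOf x = r ^ j) {T₀ : Subgroup G} [T₀.Normal] (hxT : x ∈ T₀)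
    (hT₀ : ∀ s : ℕ, s.Prime → s ≠ r → ∀ y ∈ T₀, ∀ i : ℕ, orderOf y = s ^ i →
      y ∈ fittingSubgroup G) :
    x ∈ fittingSubgroup G := by
  let T := T₀ ⊓ ⨅ s : {s : ℕ // s.Prime ∧ s ≠ r}, centralizer (pCore (s : ℕ) G : Set G)
  haveI : (⨅ s : {s : ℕ // s.Prime ∧ s ≠ r}, centralizer (pCore (s : ℕ) G : Set G)).Normal :=
    Subgroup.normal_iInf_normal fun s => inferInstance
  haveI : T.Normal := inferInstance
  have hxmem : x ∈ T := by
    refine ⟨hxT, mem_iInf.2 fun s => mem_centralizer_iff.2 fun c hc => ?_⟩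
    haveI := Fact.mk s.2.1
    obtain ⟨n, hn⟩ := IsPGroup.iff_card.1 (CfsgLib.Core.isPGroup_pCore (s : ℕ) G)
    refine hG.centralizes hx ?_ ?_ c hc
    · rw [normalizer_eq_top_iff.2 inferInstance]; exact mem_top x
    · rw [hn, hxr]
      exact ((Nat.coprime_primes s.2.1 Fact.out).2 s.2.2).pow n j
  refine le_fitting_of_primary_central (r := r) (T := T) ?_ hxmem
  intro s hs hsr y hy i ho t ht
  haveI := Fact.mk hs
  have hyF := hT₀ s hs hsr y hy.1 i ho
  have hys : y ∈ pCore s G := HallGen.mem_pCore_of_mem_nilpotent_normal inferInstance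
    (CfsgLib.Core.isNilpotent_fittingSubgroup G) hyF ho
  exact mem_centralizer_iff.1 (mem_iInf.1 ht.2 ⟨s, hs, hsr⟩) y hys

theorem eq_one_of_orderOf_prime_pow {s r : ℕ} (hs : s.Prime) (hr : r.Prime) (hne : s ≠ r) {a : G}
    {i j : ℕ} (h1 : orderOf a ∣ s ^ i) (h2 : orderOf a ∣ r ^ j) : a = 1 :=
  orderOf_eq_one_iff.1 (Nat.eq_one_of_dvd_coprimes (((Nat.coprime_primes hs hr).2 hne).pow i j) h1 h2)

/-- Values which are `r`-elements and map into `O_r(G/F)` lie in `F`. -/
theorem Good.val_mem_fitting_of_mk [Finite G] {k : ℕ} (hG : Good k G) {r : ℕ} [Fact r.Prime] {x : G}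
    (hx : IsVal k x) {j : ℕ} (hxr : orderOf x = r ^ j)
    (hxm : QuotientGroup.mk' (fittingSubgroup G) x ∈ pCore r (G ⧸ fittingSubgroup G)) :
    x ∈ fittingSubgroup G := by
  refine hG.val_mem_fitting hx hxr (T₀ := (pCore r (G ⧸ fittingSubgroup G)).comap
    (QuotientGroup.mk' (fittingSubgroup G))) hxm fun s hs hsr y hy i ho => ?_
  refine (QuotientGroup.eq_one_iff y).1 ?_
  obtain ⟨n, hn⟩ := IsPGroup.iff_card.1 (CfsgLib.Core.isPGroup_pCore r (G ⧸ fittingSubgroup G))
  exact eq_one_of_orderOf_prime_pow hs Fact.out hsr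
    (ho ▸ orderOf_map_dvd (QuotientGroup.mk' (fittingSubgroup G)) y : orderOf (QuotientGroup.mk' (fittingSubgroup G) y) ∣ _)
    (hn ▸ Subgroup.orderOf_dvd_natCard _ (Subgroup.mem_comap.1 hy) : _ ∣ r ^ n)

/-- Elements of order prime to `r` centralize `O_r(G/F)`. -/
theorem Good.commute_pCore_quotient [Finite G] {k : ℕ} (hG : Good k G) {r : ℕ} [Fact r.Prime]
    {w : G ⧸ fittingSubgroup G} (hw : (orderOf w).Coprime r) :
    ∀ a ∈ pCore r (G ⧸ fittingSubgroup G), Commute a w := by
  intro a ha
  by_contra hne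
  set π := QuotientGroup.mk' (fittingSubgroup G) with hπ
  set C := pCore r (G ⧸ fittingSubgroup G) with hC
  have hπs : Function.Surjective π := QuotientGroup.mk'_surjective _
  have hCp : IsPGroup r C := CfsgLib.Core.isPGroup_pCore _ _
  obtain ⟨R⟩ := (inferInstance : Nonempty (Sylow r (C.comap π)))
  obtain ⟨w₀, rfl⟩ := hπs w
  have hn : w₀ ∈ normalizer ((C.comap π : Subgroup G) : Set G) := by
    rw [normalizer_eq_top_iff.2 inferInstance]; exact mem_top _
  obtain ⟨u, hu, hwu⟩ := exists_normalizer_lift (N := fittingSubgroup G) R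
    (by simpa [hπ, QuotientGroup.ker_mk'] using comap_le_sylow_sup_ker hπs hCp R) hn
  have hπu : π u = π w₀ := by
    have : π (w₀⁻¹ * u) = 1 := (QuotientGroup.eq_one_iff _).2 hwu
    rw [map_mul, map_inv, inv_mul_eq_one] at this
    exact this.symm
  obtain ⟨i, hi⟩ : ∃ i : ℕ, (orderOf (u ^ r ^ i)).Coprime r := by
    refine ⟨(orderOf u).factorization r, ?_⟩
    have hr : r.Prime := Fact.out
    rw [orderOf_pow_of_dvd (pow_ne_zero _ hr.ne_zero) (Nat.ordProj_dvd (orderOf u) r),
      Nat.coprime_comm, hr.coprime_iff_not_dvd]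
    exact Nat.not_dvd_ordCompl hr (orderOf_pos u).ne'
  have hne' : ¬ Commute a (π (u ^ r ^ i)) := by
    intro hcom
    apply hne
    rw [map_pow, hπu] at hcom
    obtain ⟨m, hm⟩ := exists_pow_eq_self_of_coprime (hw.pow_right i).symm
    rw [← hm]
    exact hcom.pow_right m
  obtain ⟨n, hn'⟩ := IsPGroup.iff_card.1 hCp
  obtain ⟨c, hc, hcne⟩ := exists_iter_ne_one (R := C) (w := π (u ^ r ^ i))
    (by rw [normalizer_eq_top_iff.2 inferInstance]; exact mem_top _)
    (by rw [hn']; exact Nat.Coprime.pow_left n ((hi.coprime_dvd_left (orderOf_map_dvd π _)).symm))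
    ha hne' k
  have hRC := map_sylow_comap hπs hCp R
  rw [← hRC] at hc
  obtain ⟨d, hd, rfl⟩ := hc
  rw [← map_iter] at hcne
  have hmem := iter_mem (pow_mem hu (r ^ i)) hd k
  obtain ⟨l, hl⟩ := IsPGroup.iff_card.1 ((R.isPGroup').map (C.comap π).subtype)
  obtain ⟨j, -, hj⟩ := (Nat.dvd_prime_pow Fact.out).1 (hl ▸ Subgroup.orderOf_dvd_natCard _ hmem)
  refine hcne ((QuotientGroup.eq_one_iff _).2 (hG.val_mem_fitting_of_mk (isVal_iter le_rfl _ _) hj ?_))
  exact hRC.le (mem_map_of_mem π hmem)

/-- A solvable group in which `p'`-elements centralize `O_p` for every prime `p` is nilpotent. -/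
theorem isNilpotent_of_commute_pCore [Finite Q] [Group.IsSolvable Q]
    (h : ∀ r : ℕ, r.Prime → ∀ w : Q, (orderOf w).Coprime r → ∀ a ∈ pCore r Q, Commute a w) :
    Group.IsNilpotent Q := by
  have hF : fittingSubgroup Q = ⊤ := by
    refine eq_top_iff.2 fun x _ => HallGen.mem_of_primePow_parts _ x fun y _ p j hp ho => ?_
    haveI := Fact.mk hp
    let T : Subgroup Q := ⨅ s : {s : ℕ // s.Prime ∧ s ≠ p}, centralizer (pCore (s : ℕ) Q : Set Q)
    haveI : T.Normal := Subgroup.normal_iInf_normal fun s => inferInstance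
    have hyT : y ∈ T := mem_iInf.2 fun s => mem_centralizer_iff.2 fun c hc => by
      refine h s s.2.1 y ?_ c hc
      rw [ho]
      exact Nat.Coprime.pow_left j ((Nat.coprime_primes hp s.2.1).2 s.2.2.symm)
    refine le_fitting_of_primary_central (r := p) (T := T) ?_ hyT
    intro s hs hsp z hz i hzo t ht
    haveI := Fact.mk hs
    have hzC : z ∈ centralizer (fittingSubgroup Q : Set Q) := by
      rw [mem_centralizer_iff]
      intro f hf
      have hle : fittingSubgroup Q ≤ centralizer ({z} : Set Q) := by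
        rw [CfsgLib.Core.fittingSubgroup_eq_iSup_pCore]
        refine iSup_le fun q => fun c hc => mem_centralizer_singleton_iff.2 ?_
        rcases eq_or_ne (q : ℕ) p with hq | hq
        · exact h q q.2 z (by rw [hzo, hq]; exact Nat.Coprime.pow_left i ((Nat.coprime_primes hs hp).2 hsp)) c hc
        · exact mem_centralizer_iff.1 (mem_iInf.1 hz ⟨q, q.2, hq⟩) c hc
      exact mem_centralizer_singleton_iff.1 (hle hf)
    have hzs := HallGen.mem_pCore_of_mem_nilpotent_normal inferInstance
      (CfsgLib.Core.isNilpotent_fittingSubgroup Q)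
      (CfsgLib.Components.centralizer_fitting_le_of_isSolvable hzC) hzo
    exact mem_centralizer_iff.1 (mem_iInf.1 ht ⟨s, hs, hsp⟩) z hzs
  have := CfsgLib.Core.isNilpotent_fittingSubgroup Q
  rw [hF] at this
  exact Group.isNilpotent_top.1 this

theorem lcs_pi_eq_bot {η : Type*} [Finite η] {A : η → Type*} [∀ i, Group (A i)] {k : ℕ}
    (h : ∀ i, (⊤ : Subgroup (A i)).lowerCentralSeries k = ⊥) :
    (⊤ : Subgroup (∀ i, A i)).lowerCentralSeries k = ⊥ := by
  rw [Subgroup.top_lowerCentralSeries_pi_of_finite, pi_eq_bot_iff]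
  exact h

/-- The solvable case. -/
theorem Good.lcs_le_fitting [Finite G] [Group.IsSolvable G] {k : ℕ} (hG : Good k G) :
    (⊤ : Subgroup G).lowerCentralSeries k ≤ fittingSubgroup G := by
  set π := QuotientGroup.mk' (fittingSubgroup G) with hπ
  have hπs : Function.Surjective π := QuotientGroup.mk'_surjective _
  haveI hnil : Group.IsNilpotent (G ⧸ fittingSubgroup G) :=
    isNilpotent_of_commute_pCore fun r hr w hw =>
      haveI := Fact.mk hr
      hG.commute_pCore_quotient hw
  have hP : ∀ (p : (Nat.card (G ⧸ fittingSubgroup G)).primeFactors)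
      (P : Sylow p (G ⧸ fittingSubgroup G)),
      (⊤ : Subgroup (↑P : Subgroup (G ⧸ fittingSubgroup G))).lowerCentralSeries k = ⊥ := by
    intro p P
    haveI := Fact.mk (Nat.prime_of_mem_primeFactors p.2)
    obtain ⟨R, rfl⟩ := Sylow.mapSurjective_surjective hπs p P
    apply lcs_eq_bot_of_vals
    rintro x ⟨v, rfl⟩
    have hv : ∀ i, ∃ a ∈ (R : Subgroup G), π a = (v i : G ⧸ fittingSubgroup G) := fun i => (v i).2
    choose a ha hav using hv
    have hx : IsVal k (((List.ofFn fun i => (⟨a i, ha i⟩ : (R : Subgroup G))).tail).foldl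
        (fun a b => a * b * a⁻¹ * b⁻¹) ⟨a 0, ha 0⟩) := ⟨fun i => ⟨a i, ha i⟩, rfl⟩
    set x := ((List.ofFn fun i => (⟨a i, ha i⟩ : (R : Subgroup G))).tail).foldl
        (fun a b => a * b * a⁻¹ * b⁻¹) ⟨a 0, ha 0⟩ with hxdef
    apply Subtype.ext
    have e : π (x : G) = _ := congrArg π (map_foldl (R : Subgroup G).subtype _ _)
    rw [map_foldl, List.map_tail, List.map_tail, List.map_ofFn, List.map_ofFn] at e
    rw [← Subgroup.coe_subtype, map_foldl, List.map_tail, List.map_ofFn, map_one]
    simp only [Function.comp_def, Subgroup.coe_subtype, hav] at e ⊢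
    rw [← e]
    obtain ⟨l, hl⟩ := IsPGroup.iff_card.1 R.isPGroup'
    obtain ⟨j, -, hj⟩ := (Nat.dvd_prime_pow Fact.out).1 (hl ▸ Subgroup.orderOf_dvd_natCard _ x.2)
    refine (QuotientGroup.eq_one_iff _).2 (hG.val_mem_fitting_of_mk (hx.map (R : Subgroup G).subtype) hj ?_)
    exact HallGen.mem_pCore_of_forall_sylow _ _ fun P' => by
      obtain ⟨R', rfl⟩ := Sylow.mapSurjective_surjective hπs p P'
      haveI : Subsingleton (Sylow p (G ⧸ fittingSubgroup G)) := Sylow.unique_of_normal
        (R'.mapSurjective hπs) inferInstance |>.instSubsingleton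
      rw [Subsingleton.elim (R'.mapSurjective hπs) (R.mapSurjective hπs)]
      exact mem_map_of_mem π x.2
  have hbot : (⊤ : Subgroup (G ⧸ fittingSubgroup G)).lowerCentralSeries k = ⊥ := by
    obtain ⟨e⟩ := (Group.isNilpotent_of_finite_tfae.out 0 4 rfl rfl).1 hnil
    have := congrArg (Subgroup.map e.toMonoidHom) (lcs_pi_eq_bot fun p => lcs_pi_eq_bot (hP p))
    rwa [Subgroup.map_bot, map_lowerCentralSeries, map_top_of_surjective _ e.surjective] at this
  intro g hg
  have := mem_map_of_mem π hg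
  rw [map_lowerCentralSeries, map_top_of_surjective _ hπs, hbot, mem_bot] at this
  exact (QuotientGroup.eq_one_iff g).1 this

end CfsgLib.GammaValues
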